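import Mathlib.AlgebraicGeometry.Noetherian
import Mathlib.AlgebraicGeometry.AffineScheme

/-!
# Spreading out ideal membership from a generic point (pure scheme algebra)
-/

set_option autoImplicit false
universe u
open CategoryTheory AlgebraicGeometry TopologicalSpace Opposite

namespace Groth.Agent.H30.IdealGen

variable {X : Scheme.{u}}

/-- `A = Γ(X, W)` Noetherian, `ξ ∈ W`, `I ⊆ A`: a single `s` with `ξ ∈ D(s)` multiplies into `I`
every `a` whose germ at `ξ` lies in `I·O_ξ`. -/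
lemma exists_mul_mem {W : X.Opens} (hW : IsAffineOpen W) [IsNoetherianRing Γ(X, W)]
    (ξ : X) (hξ : ξ ∈ W) (I : Ideal Γ(X, W)) :
    ∃ s : Γ(X, W), ξ ∈ X.basicOpen s ∧ ∀ a : Γ(X, W),
      X.presheaf.germ W ξ hξ a ∈ Ideal.map (X.presheaf.germ W ξ hξ).hom I → s * a ∈ I := by
  let _ := X.presheaf.algebra_section_stalk (⟨ξ, hξ⟩ : W)
  have := hW.isLocalization_stalk ⟨ξ, hξ⟩
  set P := (hW.primeIdealOf ⟨ξ, hξ⟩).asIdeal with hP
  have hunit : ∀ s ∈ P.primeCompl, ξ ∈ X.basicOpen s := by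
    intro s hs
    rw [Scheme.mem_basicOpen _ _ _ hξ]
    exact IsLocalization.map_units (X.presheaf.stalk ξ) (⟨s, hs⟩ : P.primeCompl)
  have h1 : ∀ a : Γ(X, W), algebraMap Γ(X, W) (X.presheaf.stalk ξ) a ∈
      Ideal.map (algebraMap Γ(X, W) (X.presheaf.stalk ξ)) I → ∃ s ∈ P.primeCompl, s * a ∈ I := by
    intro a ha
    rw [IsLocalization.mem_map_algebraMap_iff P.primeCompl] at ha
    obtain ⟨⟨i, u⟩, h⟩ := ha
    rw [← map_mul, IsLocalization.eq_iff_exists P.primeCompl] at h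
    obtain ⟨v, hv⟩ := h
    refine ⟨v * u, mul_mem v.2 u.2, ?_⟩
    have : (v : Γ(X, W)) * u * a = v * (a * u) := by ring
    rw [this, hv]
    exact I.mul_mem_left _ i.2
  let J : Ideal Γ(X, W) := Ideal.comap (algebraMap Γ(X, W) (X.presheaf.stalk ξ))
    (Ideal.map (algebraMap Γ(X, W) (X.presheaf.stalk ξ)) I)
  have hJ : J.FG := IsNoetherian.noetherian J
  obtain ⟨S, hS⟩ := hJ
  have h2 : ∀ T : Finset Γ(X, W), (∀ a ∈ T, a ∈ J) → ∃ s ∈ P.primeCompl, ∀ a ∈ T, s * a ∈ I := by
    classical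
    intro T
    induction T using Finset.induction_on with
    | empty => exact fun _ => ⟨1, one_mem _, fun a ha => absurd ha (Finset.notMem_empty a)⟩
    | insert a T _ ih =>
      intro h
      obtain ⟨s, hs, hsT⟩ := ih (fun b hb => h b (Finset.mem_insert_of_mem hb))
      obtain ⟨s', hs', hsa⟩ := h1 a (h a (Finset.mem_insert_self a T))
      refine ⟨s * s', mul_mem hs hs', fun b hb => ?_⟩
      rcases Finset.mem_insert.1 hb with rfl | hb
      · rw [mul_assoc]; exact I.mul_mem_left _ hsa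
      · have : s * s' * b = s' * (s * b) := by ring
        rw [this]; exact I.mul_mem_left _ (hsT b hb)
  obtain ⟨s, hs, hsS⟩ := h2 S (fun a ha => hS ▸ Submodule.subset_span ha)
  have h3 : ∀ a ∈ Submodule.span Γ(X, W) (S : Set Γ(X, W)), s * a ∈ I := by
    intro a haJ
    induction haJ using Submodule.span_induction with
    | mem b hb => exact hsS b hb
    | zero => rw [mul_zero]; exact I.zero_mem
    | add b c _ _ hb hc => rw [mul_add]; exact I.add_mem hb hc
    | smul r b _ hb =>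
      rw [smul_eq_mul, mul_left_comm]; exact I.mul_mem_left _ hb
  refine ⟨s, hunit s hs, fun a ha => h3 a ?_⟩
  have haJ : a ∈ J := ha
  rw [← hS] at haJ
  exact haJ

/-- if `s` multiplies into `I` everything that is generically in `I`, then a section `b` over `D(f)`
whose germ at `ξ` is in `I·O_ξ` has germ in `I·O_x` at every point `x` of `D(s) ∩ D(f)`. -/
lemma germ_mem_of_mul_mem {W : X.Opens} (hW : IsAffineOpen W) (I : Ideal Γ(X, W)) (s : Γ(X, W))
    (ξ : X) (hξ : ξ ∈ W)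
    (hs : ∀ a : Γ(X, W),
      X.presheaf.germ W ξ hξ a ∈ Ideal.map (X.presheaf.germ W ξ hξ).hom I → s * a ∈ I)
    (x : X) (hxs : x ∈ X.basicOpen s) (f : Γ(X, W)) (hxf : x ∈ X.basicOpen f)
    (hξf : ξ ∈ X.basicOpen f) (b : Γ(X, X.basicOpen f))
    (hb : X.presheaf.germ (X.basicOpen f) ξ hξf b ∈ Ideal.map (X.presheaf.germ W ξ hξ).hom I) :
    X.presheaf.germ (X.basicOpen f) x hxf b ∈
      Ideal.map (X.presheaf.germ W x (X.basicOpen_le f hxf)).hom I := by
  have := hW.isLocalization_basicOpen f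
  obtain ⟨⟨a, ⟨_, k, rfl⟩⟩, h⟩ := IsLocalization.surj (Submonoid.powers f) b
  have h' : b * X.presheaf.map (homOfLE (X.basicOpen_le f)).op (f ^ k) =
      X.presheaf.map (homOfLE (X.basicOpen_le f)).op a := h
  have hxW : x ∈ W := X.basicOpen_le f hxf
  -- at ξ
  have e1 : X.presheaf.germ W ξ hξ a =
      X.presheaf.germ (X.basicOpen f) ξ hξf b * X.presheaf.germ W ξ hξ (f ^ k) := by
    rw [← X.presheaf.germ_res_apply (homOfLE (X.basicOpen_le f)) ξ hξf a, ← h', map_mul,
      X.presheaf.germ_res_apply (homOfLE (X.basicOpen_le f)) ξ hξf (f ^ k)]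
  have e2 : X.presheaf.germ W x hxW a =
      X.presheaf.germ (X.basicOpen f) x hxf b * X.presheaf.germ W x hxW (f ^ k) := by
    rw [← X.presheaf.germ_res_apply (homOfLE (X.basicOpen_le f)) x hxf a, ← h', map_mul,
      X.presheaf.germ_res_apply (homOfLE (X.basicOpen_le f)) x hxf (f ^ k)]
  have h1 : s * a ∈ I := by
    apply hs
    rw [e1]
    exact Ideal.mul_mem_right _ _ hb
  have h2 : X.presheaf.germ W x hxW (s * a) ∈ Ideal.map (X.presheaf.germ W x hxW).hom I :=
    Ideal.mem_map_of_mem _ h1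
  rw [map_mul, e2, map_pow] at h2
  have u1 : IsUnit (X.presheaf.germ W x hxW s) := (X.mem_basicOpen s x hxW).1 hxs
  have u2 : IsUnit (X.presheaf.germ W x hxW f) := (X.mem_basicOpen f x hxW).1 hxf
  rw [Ideal.unit_mul_mem_iff_mem _ u1, Ideal.mul_unit_mem_iff_mem _ (u2.pow k)] at h2
  exact h2

end Groth.Agent.H30.IdealGen
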