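import Groth.Agent.H30.IdealGen.Global
import Groth.Agent.H5.PullbackTensor

/-!
# Ascending chains of sub-`O_X`-modules of `O_X` on a Noetherian scheme stabilize
-/

set_option autoImplicit false
universe u
open CategoryTheory CategoryTheory.Limits AlgebraicGeometry TopologicalSpace Opposite

namespace Groth.Agent.H30.IdealGen

open Groth.Agent.H5.Stalk Groth.Agent.H5.Stalk.Tensor Groth.Agent.H71.QCoh

variable {X : Scheme.{u}}

/-- the image of the stalk of `G ⊆ O_X` in the local ring -/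
noncomputable def stI {G : X.Modules} (ι : G ⟶ Coh.structureModule X) (x : X) :
    Ideal (X.presheaf.stalk x) := LinearMap.range (ιst ι x)

variable (G : ℕ → X.Modules) (ι : ∀ n, G n ⟶ Coh.structureModule X)

/-- **Key local lemma, chain version**: near `ξ`, the stalk images of an increasing sequence of
sub-`O_X`-modules of `O_X` stabilize uniformly at all specializations of `ξ`. -/
theorem exists_local_stable [IsLocallyNoetherian X] [∀ n, Mono (ι n)]
    (hmono : ∀ n m, n ≤ m → ∀ x, stI (ι n) x ≤ stI (ι m) x) (ξ : X) :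
    ∃ (W' : X.Opens) (N : ℕ), ξ ∈ W' ∧
      ∀ n, N ≤ n → ∀ x ∈ W', ξ ⤳ x → stI (ι n) x ≤ stI (ι N) x := by
  classical
  -- the chain of ideals at ξ stabilizes
  let c : ℕ →o Ideal (X.presheaf.stalk ξ) :=
    ⟨fun n => stI (ι n) ξ, fun n m h => hmono n m h ξ⟩
  obtain ⟨N, hN⟩ := (monotone_stabilizes_iff_noetherian
    (R := X.presheaf.stalk ξ) (M := X.presheaf.stalk ξ)).2 inferInstance c
  -- generators of the stalk of `G N` at ξ
  have hNoe : IsNoetherian (X.presheaf.stalk ξ) ((G N).presheaf.stalk ξ) :=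
    isNoetherian_of_injective (ιst (ι N) ξ) (ιst_injective (ι N) ξ)
  obtain ⟨S, hS⟩ := hNoe.noetherian ⊤
  obtain ⟨W, hW, hξ, hm⟩ := exists_affine_sections ξ S
  choose! t ht using hm
  have : IsNoetherianRing Γ(X, W) := IsLocallyNoetherian.component_noetherian ⟨W, hW⟩
  let I : Ideal Γ(X, W) :=
    Ideal.span ((fun g => ιsec (ι N) W (t g)) '' (S : Set ((G N).presheaf.stalk ξ)))
  obtain ⟨s, hξs, hs⟩ := exists_mul_mem hW ξ hξ I
  refine ⟨X.basicOpen s, N, hξs, fun n hn x hxs hsp => ?_⟩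
  have hxW : x ∈ W := X.basicOpen_le s hxs
  -- the image of the stalk of `G N` at ξ is `I·O_ξ`
  have hξI : ∀ g : (G N).presheaf.stalk ξ,
      ιst (ι N) ξ g ∈ Ideal.map (X.presheaf.germ W ξ hξ).hom I := by
    intro g
    have hg : g ∈ Submodule.span (X.presheaf.stalk ξ) (S : Set ((G N).presheaf.stalk ξ)) := by
      rw [hS]; trivial
    have h1 := Submodule.mem_map_of_mem (f := ιst (ι N) ξ) hg
    rw [Submodule.map_span] at h1
    refine (Submodule.span_le (p := Ideal.map (X.presheaf.germ W ξ hξ).hom I)).2 ?_ h1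
    rintro _ ⟨g', hg', rfl⟩
    rw [← ht g' hg', ιst_germ]
    exact Ideal.mem_map_of_mem _ (Ideal.subset_span ⟨g', hg', rfl⟩)
  rintro _ ⟨g', rfl⟩
  obtain ⟨U, hxU, m', rfl⟩ := (G n).presheaf.exists_germ_eq g'
  obtain ⟨f, hfle, hxf⟩ := hW.exists_basicOpen_le (V := W ⊓ U) ⟨x, ⟨hxW, hxU⟩⟩ hxW
  have hxf' : x ∈ X.basicOpen f := hxf
  have hξf : ξ ∈ X.basicOpen f := hsp.mem_open (X.basicOpen f).2 hxf'
  let m'' : Γ(G n, X.basicOpen f) := (G n).presheaf.map (homOfLE (hfle.trans inf_le_right)).op m'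
  have e0 : (G n).presheaf.germ U x hxU m' = (G n).presheaf.germ (X.basicOpen f) x hxf' m'' :=
    ((G n).presheaf.germ_res_apply _ _ _ _).symm
  rw [e0]
  have hb : X.presheaf.germ (X.basicOpen f) ξ hξf (ιsec (ι n) _ m'') ∈
      Ideal.map (X.presheaf.germ W ξ hξ).hom I := by
    rw [← ιst_germ]
    have h1 : ιst (ι n) ξ ((G n).presheaf.germ (X.basicOpen f) ξ hξf m'') ∈ stI (ι n) ξ :=
      ⟨_, rfl⟩
    have h2 : stI (ι n) ξ = stI (ι N) ξ := (hN n hn).symm
    rw [h2] at h1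
    obtain ⟨g0, hg0⟩ := h1
    rw [← hg0]
    exact hξI g0
  have key := germ_mem_of_mul_mem hW I s ξ hξ hs x hxs f hxf' hξf (ιsec (ι n) _ m'') hb
  rw [← ιst_germ, Ideal.map_span] at key
  have h2 : Ideal.span ((X.presheaf.germ W x (X.basicOpen_le f hxf')).hom ''
      ((fun g => ιsec (ι N) W (t g)) '' (S : Set ((G N).presheaf.stalk ξ)))) ≤ stI (ι N) x := by
    refine Submodule.span_le.2 ?_
    rintro _ ⟨_, ⟨g, hg, rfl⟩, rfl⟩
    exact ⟨(G N).presheaf.germ W x hxW (t g), ιst_germ (ι N) x W hxW (t g)⟩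
  exact h2 key

/-- on a Noetherian scheme, the stalk images of an increasing sequence of sub-`O_X`-modules of
`O_X` stabilize uniformly on every closed subset (Noetherian induction) -/
theorem exists_stable_on_closed [IsNoetherian X] [∀ n, Mono (ι n)]
    (hmono : ∀ n m, n ≤ m → ∀ x, stI (ι n) x ≤ stI (ι m) x) (Y : Closeds X) :
    ∃ N : ℕ, ∀ n, N ≤ n → ∀ x ∈ Y, stI (ι n) x ≤ stI (ι N) x := by
  apply wellFounded_lt.induction Y; clear Y
  intro Y H
  rcases eq_or_ne Y ⊥ with rfl | h₀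
  · exact ⟨0, fun n _ x hx => absurd hx (Set.notMem_empty x)⟩
  · by_cases h₁ : IsPreirreducible (Y : Set X)
    · replace h₁ : IsIrreducible (Y : Set X) := ⟨Closeds.coe_nonempty.2 h₀, h₁⟩
      obtain ⟨ξ, hξ⟩ := QuasiSober.sober h₁ Y.2
      obtain ⟨W', N₀, hξW, hgen⟩ := exists_local_stable G ι hmono ξ
      have hξY : ξ ∈ Y := hξ.mem
      let Z : Closeds X := ⟨(W' : Set X)ᶜ, W'.2.isClosed_compl⟩
      have hlt : Y ⊓ Z < Y := by
        refine lt_of_le_of_ne inf_le_left (fun h => ?_)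
        have : ξ ∈ Y ⊓ Z := by rw [h]; exact hξY
        exact this.2 hξW
      obtain ⟨N₁, hgen'⟩ := H (Y ⊓ Z) hlt
      refine ⟨max N₀ N₁, fun n hn x hx => ?_⟩
      by_cases hxW : x ∈ W'
      · have hsp : ξ ⤳ x := by
          rw [specializes_iff_mem_closure, hξ.def]
          exact hx
        exact (hgen n ((le_max_left _ _).trans hn) x hxW hsp).trans
          (hmono N₀ _ (le_max_left _ _) x)
      · exact (hgen' n ((le_max_right _ _).trans hn) x ⟨hx, hxW⟩).trans
          (hmono N₁ _ (le_max_right _ _) x)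
    · simp only [isPreirreducible_iff_isClosed_union_isClosed, not_forall, not_or] at h₁
      obtain ⟨z₁, z₂, hz₁, hz₂, h, hz₁', hz₂'⟩ := h₁
      lift z₁ to Closeds X using hz₁
      lift z₂ to Closeds X using hz₂
      obtain ⟨N₁, h₁⟩ := H (Y ⊓ z₁) (inf_lt_left.2 hz₁')
      obtain ⟨N₂, h₂⟩ := H (Y ⊓ z₂) (inf_lt_left.2 hz₂')
      refine ⟨max N₁ N₂, fun n hn x hx => ?_⟩
      rcases h hx with hx1 | hx2
      · exact (h₁ n ((le_max_left _ _).trans hn) x ⟨hx, hx1⟩).trans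
          (hmono N₁ _ (le_max_left _ _) x)
      · exact (h₂ n ((le_max_right _ _).trans hn) x ⟨hx, hx2⟩).trans
          (hmono N₂ _ (le_max_right _ _) x)

end Groth.Agent.H30.IdealGen
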