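import Groth.Agent.H30.IdealGen.NoethObj
import Groth.Prelude.Def_CxOX
import Mathlib.CategoryTheory.Adjunction.Triple

/-!
# `j_! O_U` is a Noetherian object (X locally Noetherian, U affine)
-/

set_option autoImplicit false
universe u
open CategoryTheory CategoryTheory.Limits AlgebraicGeometry TopologicalSpace Opposite

namespace Groth.Agent.H30.IdealGen

open Groth.Agent.H5.Stalk Scheme.Modules

variable {U X : Scheme.{u}} (j : U ⟶ X) [IsOpenImmersion j]

/-- `j_!` is fully faithful: the unit of `j_! ⊣ j^*` is an isomorphism (adjoint triple with the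
fully faithful `j_*`) -/
instance isIso_unit_extZeroAdj : IsIso (CxOX.extZeroAdj j).unit := by
  let t : Adjunction.Triple (CxOX.extZero j) (restrictFunctor j) (pushforward j) :=
    ⟨CxOX.extZeroAdj j, restrictAdjunction j⟩
  exact t.isIso_unit_iff_isIso_counit.2 (inferInstanceAs (IsIso (restrictAdjunction j).counit))

/-- the restriction to `U` of a skyscraper module at a point outside `U` is zero -/
lemma isZero_restrict_sky (x : X) (hx : x ∉ Set.range j)
    (N : ModuleCat.{u} (X.presheaf.stalk x)) :
    IsZero ((restrictFunctor j).obj (sky x N)) := by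
  rw [IsZero.iff_id_eq_zero]
  ext V s
  have hsub : Subsingleton (SkyCarrier x N (j ''ᵁ V)) :=
    ⟨fun a b => funext (fun h => absurd (Set.image_subset_range _ _ h.down) hx)⟩
  exact @Subsingleton.elim _ hsub _ _

/-- the stalks of `j_! G` vanish outside `U` -/
lemma subsingleton_stalk_extZero (x : X) (hx : x ∉ Set.range j) (G : U.Modules) :
    Subsingleton (((CxOX.extZero j).obj G).presheaf.stalk x) := by
  let S := (stalkFunctor x).obj ((CxOX.extZero j).obj G)
  have h1 : Subsingleton (G ⟶ (restrictFunctor j).obj ((skyFunctor x).obj S)) :=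
    ⟨fun a b => (isZero_restrict_sky j x hx S).eq_of_tgt a b⟩
  have h2 : Subsingleton ((CxOX.extZero j).obj G ⟶ (skyFunctor x).obj S) :=
    ((CxOX.extZeroAdj j).homEquiv G _).subsingleton
  have h3 : Subsingleton (S ⟶ S) := ((stalkSkyAdjunction x).homEquiv _ S).subsingleton
  have h4 : IsZero S := (IsZero.iff_id_eq_zero S).2 (Subsingleton.elim _ _)
  exact ModuleCat.subsingleton_of_isZero h4

/-- a monomorphism between subobjects of `j_! G` which restricts to an isomorphism on `U` is an
isomorphism -/
lemma isIso_of_isIso_restrict {H₁ H₂ : X.Modules} (f : H₁ ⟶ H₂) [Mono f] {G : U.Modules}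
    (m : H₂ ⟶ (CxOX.extZero j).obj G) [Mono m] (h : IsIso ((restrictFunctor j).map f)) :
    IsIso f := by
  have : Epi f := by
    refine Groth.Agent.H5.PullbackTensor.epi_of_epi_stalkFunctor_map f (fun x => ?_)
    rw [ModuleCat.epi_iff_surjective]
    by_cases hx : x ∈ Set.range j
    · obtain ⟨u, rfl⟩ := hx
      have e := restrictStalkNatIso j u
      have hnat := e.hom.naturality f
      have h1 : IsIso ((restrictFunctor j ⋙ toPresheaf U ⋙
          TopCat.Presheaf.stalkFunctor Ab.{u} u).map f) := by
        rw [Functor.comp_map]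
        infer_instance
      have h2 : IsIso ((toPresheaf X ⋙ TopCat.Presheaf.stalkFunctor Ab.{u} (j u)).map f) := by
        have h3 : (toPresheaf X ⋙ TopCat.Presheaf.stalkFunctor Ab.{u} (j u)).map f =
            e.inv.app H₁ ≫ (restrictFunctor j ⋙ toPresheaf U ⋙
              TopCat.Presheaf.stalkFunctor Ab.{u} u).map f ≫ e.hom.app H₂ := by
          rw [hnat, ← Category.assoc, ← NatTrans.comp_app, Iso.inv_hom_id, NatTrans.id_app,
            Category.id_comp]
        rw [h3]
        infer_instance
      have h4 : Epi ((toPresheaf X ⋙ TopCat.Presheaf.stalkFunctor Ab.{u} (j u)).map f) :=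
        inferInstance
      exact (AddCommGrpCat.epi_iff_surjective _).1 h4
    · intro g
      have hsub : Subsingleton (H₂.presheaf.stalk x) := by
        have hinj := stalkFunctor_map_injective_of_mono x m
        have hs := subsingleton_stalk_extZero j x hx G
        exact @Function.Injective.subsingleton _ _ _ hinj hs
      exact ⟨0, @Subsingleton.elim _ hsub _ _⟩
  exact isIso_of_mono_of_epi f

/-- `j_! O_U` is a Noetherian object of `X.Modules` for `X` locally Noetherian and `U` affine -/
theorem extZeroUnit_chain_stabilizes [IsLocallyNoetherian X] [IsAffine U]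
    (c : ℕ →o Subobject (CxOX.extZeroUnit j)) :
    ∃ n : ℕ, ∀ m : ℕ, n ≤ m → c n = c m := by
  have hLN : IsLocallyNoetherian U := isLocallyNoetherian_of_isOpenImmersion j
  have hN : IsNoetherian U := {}
  let F' : U.Modules := (restrictFunctor j).obj (CxOX.extZeroUnit j)
  let κ : F' ⟶ Coh.structureModule U :=
    inv ((CxOX.extZeroAdj j).unit.app (Coh.structureModule U))
  have hκ : Mono κ := inferInstance
  let d : ℕ →o Subobject F' :=
    ⟨fun n => Subobject.mk ((restrictFunctor j).map (c n).arrow), fun n m h =>
      Subobject.mk_le_mk_of_comm ((restrictFunctor j).map (Subobject.ofLE _ _ (c.monotone h)))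
        (by rw [← Functor.map_comp, Subobject.ofLE_arrow])⟩
  obtain ⟨N, hN⟩ := subobject_chain_stabilizes κ d
  refine ⟨N, fun m hm => ?_⟩
  let f : (c N : X.Modules) ⟶ (c m : X.Modules) := Subobject.ofLE (c N) (c m) (c.monotone hm)
  have hRf : IsIso ((restrictFunctor j).map f) := by
    have heq : Subobject.mk ((restrictFunctor j).map (c N).arrow) =
        Subobject.mk ((restrictFunctor j).map (c m).arrow) := hN m hm
    have h1 : (restrictFunctor j).map f = (Subobject.isoOfMkEqMk _ _ heq).hom := by
      rw [← cancel_mono ((restrictFunctor j).map (c m).arrow), ← Functor.map_comp,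
        Subobject.ofLE_arrow]
      exact (Subobject.ofMkLEMk_comp heq.le).symm
    rw [h1]
    infer_instance
  have hf : IsIso f := isIso_of_isIso_restrict j f (c m).arrow hRf
  refine le_antisymm (c.monotone hm) (Subobject.le_of_comm (inv f) ?_)
  rw [IsIso.inv_comp_eq]
  exact (Subobject.ofLE_arrow _).symm

end Groth.Agent.H30.IdealGen
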