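import Groth.Agent.H33.BaerFamily
import Groth.Agent.H18.SectionHom
import Groth.Agent.H30.IdealGen.ExtZeroNoeth

/-!
# The modules `j_! O_V`, `V` affine open, detect isomorphisms among monomorphisms of `O_X`-modules
-/

set_option autoImplicit false
universe u
open CategoryTheory CategoryTheory.Limits AlgebraicGeometry TopologicalSpace Opposite

namespace Groth.Agent.H30.IdealGen

open Groth.Agent.H5.Stalk Scheme.Modules

/-- the generating family `j_! O_V`, `V` ranging over the affine opens of `X` -/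
noncomputable def genFam (X : Scheme.{u}) (V : X.affineOpens) : X.Modules :=
  (CxOX.extZero V.1.ι).obj (Coh.structureModule (V.1 : Scheme.{u}))

theorem detects_genFam (X : Scheme.{u}) : Groth.Agent.H33.Baer.Detects (genFam X) := by
  intro M N p _ h
  have hepi : Epi p := by
    refine Groth.Agent.H5.PullbackTensor.epi_of_epi_stalkFunctor_map p (fun x => ?_)
    rw [ModuleCat.epi_iff_surjective]
    intro n
    obtain ⟨W, hxW, s, rfl⟩ := N.presheaf.exists_germ_eq n
    obtain ⟨V, hV, hxV, hVW⟩ := exists_isAffineOpen_mem_and_subset hxW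
    have himg : V.ι ''ᵁ ⊤ = V := Scheme.Opens.ι_image_top V
    have hle : V.ι ''ᵁ ⊤ ≤ W := himg.le.trans hVW
    have hx' : x ∈ V.ι ''ᵁ ⊤ := himg.ge hxV
    let s' : Γ((restrictFunctor V.ι).obj N, (⊤ : (V : Scheme.{u}).Opens)) :=
      N.presheaf.map (homOfLE hle).op s
    let f₀ := Groth.Agent.H18.sectionHom ((restrictFunctor V.ι).obj N) s'
    let f := ((CxOX.extZeroAdj V.ι).homEquiv _ _).symm f₀
    obtain ⟨g, hg⟩ : ∃ g : (CxOX.extZero V.ι).obj (Coh.structureModule (V : Scheme.{u})) ⟶ M,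
        g ≫ p = f := h ⟨V, hV⟩ f
    let g₀ := (CxOX.extZeroAdj V.ι).homEquiv _ _ g
    have hg₀ : g₀ ≫ (restrictFunctor V.ι).map p = f₀ := by
      rw [← Adjunction.homEquiv_naturality_right, hg]
      exact Equiv.apply_symm_apply _ _
    let t' : Γ(M, V.ι ''ᵁ ⊤) := g₀.app ⊤ (1 : Γ((V : Scheme.{u}), ⊤))
    have ht' : p.app (V.ι ''ᵁ ⊤) t' = s' := by
      have h1 : (g₀ ≫ (restrictFunctor V.ι).map p).app ⊤ (1 : Γ((V : Scheme.{u}), ⊤)) =
          f₀.app ⊤ (1 : Γ((V : Scheme.{u}), ⊤)) := by rw [hg₀]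
      have h2 := Groth.Agent.H18.sectionHom_app_one ((restrictFunctor V.ι).obj N) s' ⊤
      rw [h2] at h1
      refine h1.trans ?_
      change ((restrictFunctor V.ι).obj N).presheaf.map (𝟙 _) s' = s'
      rw [CategoryTheory.Functor.map_id]
      rfl
    refine ⟨M.presheaf.germ (V.ι ''ᵁ ⊤) x hx' t', ?_⟩
    rw [stalkFunctor_map_germ, ht']
    exact N.presheaf.germ_res_apply (homOfLE hle) x hx' s
  exact isIso_of_mono_of_epi p

end Groth.Agent.H30.IdealGen
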