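import Groth.Agent.H30.IdealGen.Detects
import Groth.Agent.H45.Scheme.FlatConverse
import Groth.Agent.H45.SheafTensor.FlatOps

/-!
# Every `O_X`-module is a quotient of a direct sum of modules `j_! O_U`, and such sums are flat
-/

set_option autoImplicit false
universe u
open CategoryTheory CategoryTheory.Limits AlgebraicGeometry TopologicalSpace Opposite

namespace Groth.Agent.H30.IdealGen

open Groth.Agent.H5.Stalk Scheme.Modules

variable {X : Scheme.{u}}

/-- the canonical morphism `j_! O_V ⟶ O_X` (adjoint to `O_V ≅ O_X|_V`) -/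
noncomputable def extZeroUnitToUnit (V : X.Opens) :
    CxOX.extZeroUnit V.ι ⟶ Coh.structureModule X :=
  ((CxOX.extZeroAdj V.ι).homEquiv _ _).symm (restrictUnitIso V.ι).inv

lemma isIso_restrict_extZeroUnitToUnit (V : X.Opens) :
    IsIso ((restrictFunctor V.ι).map (extZeroUnitToUnit V)) := by
  have h1 : (CxOX.extZeroAdj V.ι).unit.app _ ≫ (restrictFunctor V.ι).map (extZeroUnitToUnit V) =
      (restrictUnitIso V.ι).inv := by
    have := (CxOX.extZeroAdj V.ι).homEquiv_unit (f := extZeroUnitToUnit V)
    rw [← this]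
    exact Equiv.apply_symm_apply _ _
  have h3 : IsIso ((CxOX.extZeroAdj V.ι).unit.app (Coh.structureModule (V : Scheme.{u})) ≫
      (restrictFunctor V.ι).map (extZeroUnitToUnit V)) := by
    rw [h1]; infer_instance
  exact IsIso.of_isIso_comp_left ((CxOX.extZeroAdj V.ι).unit.app
    (Coh.structureModule (V : Scheme.{u}))) _

/-- `j_! O_V` has flat (free of rank one, or zero) stalks -/
theorem isFlat_extZeroUnit (V : X.Opens) : FlatMod.IsFlat (CxOX.extZeroUnit V.ι) := by
  intro x
  by_cases hx : x ∈ Set.range V.ι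
  · obtain ⟨u, rfl⟩ := hx
    set κ := extZeroUnitToUnit V with hκ
    have hiso := isIso_restrict_extZeroUnitToUnit V
    -- the stalk of κ at a point of V is bijective
    have e := restrictStalkNatIso V.ι u
    have hnat := e.hom.naturality κ
    have h1 : IsIso ((restrictFunctor V.ι ⋙ toPresheaf (V : Scheme.{u}) ⋙
        TopCat.Presheaf.stalkFunctor Ab.{u} u).map κ) := by
      rw [Functor.comp_map]
      infer_instance
    have h2 : IsIso ((toPresheaf X ⋙ TopCat.Presheaf.stalkFunctor Ab.{u} (V.ι u)).map κ) := by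
      have h3 : (toPresheaf X ⋙ TopCat.Presheaf.stalkFunctor Ab.{u} (V.ι u)).map κ =
          e.inv.app _ ≫ (restrictFunctor V.ι ⋙ toPresheaf (V : Scheme.{u}) ⋙
            TopCat.Presheaf.stalkFunctor Ab.{u} u).map κ ≫ e.hom.app _ := by
        rw [hnat, ← Category.assoc, ← NatTrans.comp_app, Iso.inv_hom_id, NatTrans.id_app,
          Category.id_comp]
      rw [h3]
      infer_instance
    have hbij : Function.Bijective ((stalkFunctor (V.ι u)).map κ).hom :=
      ConcreteCategory.bijective_of_isIso
        ((toPresheaf X ⋙ TopCat.Presheaf.stalkFunctor Ab.{u} (V.ι u)).map κ)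
    have hbij' : Function.Bijective (ιst κ (V.ι u)) :=
      (Groth.Agent.H71.QCoh.unitStalkEquiv (V.ι u)).bijective.comp hbij
    exact Module.Flat.of_linearEquiv (LinearEquiv.ofBijective (ιst κ (V.ι u)) hbij')
  · have hs := subsingleton_stalk_extZero V.ι x hx (Coh.structureModule (V : Scheme.{u}))
    have hs' : Subsingleton ((CxOX.extZeroUnit V.ι).presheaf.stalk x) := hs
    change Module.Flat (X.presheaf.stalk x) ((CxOX.extZeroUnit V.ι).presheaf.stalk x)
    infer_instance

end Groth.Agent.H30.IdealGen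

namespace Groth.Agent.H30.IdealGen

open Groth.Agent.H5.Stalk Scheme.Modules

variable {X : Scheme.{u}}

/-- a direct sum of modules `j_! O_U` is flat -/
theorem isFlat_sigma_extZeroUnit {ι : Type u} (U : ι → X.Opens) :
    FlatMod.IsFlat (∐ fun i => CxOX.extZeroUnit (U i).ι) := by
  refine (Groth.Agent.H45.flatMod_iff_isFlat _).2 ?_
  exact Groth.Agent.H45.isFlat_of_isColimit_cofan (O := X.sheaf)
    (fun i => CxOX.extZeroUnit (U i).ι)
    (fun i => (Groth.Agent.H45.flatMod_iff_isFlat _).1 (isFlat_extZeroUnit (U i))) _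
    (coproductIsCoproduct (fun i => CxOX.extZeroUnit (U i).ι))

/-- every `O_X`-module is a quotient of a direct sum of modules `j_! O_U` -/
theorem exists_epi_sigma_extZeroUnit (F : X.Modules) :
    ∃ (ι : Type u) (U : ι → X.Opens) (p : (∐ fun i => CxOX.extZeroUnit (U i).ι) ⟶ F), Epi p := by
  let ι : Type u := Σ V : X.affineOpens, (genFam X V ⟶ F)
  let U : ι → X.Opens := fun i => i.1.1
  let p : (∐ fun i => CxOX.extZeroUnit (U i).ι) ⟶ F :=
    Limits.Sigma.desc (fun i : ι => (i.2 : CxOX.extZeroUnit (U i).ι ⟶ F))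
  refine ⟨ι, U, p, ?_⟩
  have hiso : IsIso (image.ι p) := by
    refine detects_genFam X (image.ι p) (fun V f => ?_)
    refine ⟨Limits.Sigma.ι (fun i : ι => CxOX.extZeroUnit (U i).ι) ⟨V, f⟩ ≫
      factorThruImage p, ?_⟩
    rw [Category.assoc, image.fac]
    exact Limits.Sigma.ι_desc _ _
  have : p = factorThruImage p ≫ image.ι p := (image.fac p).symm
  rw [this]
  infer_instance

end Groth.Agent.H30.IdealGen
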