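import Groth.Agent.H30.IdealGen.Local

/-!
# Noetherian induction: finitely many local sections of `G ⊆ O_X` generate all stalks
-/

set_option autoImplicit false
universe u
open CategoryTheory CategoryTheory.Limits AlgebraicGeometry TopologicalSpace Opposite

namespace Groth.Agent.H30.IdealGen

variable {X : Scheme.{u}} {G : X.Modules} (ι : G ⟶ Coh.structureModule X)

/-- on a Noetherian scheme, finitely many local sections of `G ⊆ O_X` generate the stalks of `G`
at all points of any closed subset (Noetherian induction) -/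
theorem exists_generators_on_closed [IsNoetherian X] [Mono ι] (Y : Closeds X) :
    ∃ T : Set (LSec G), T.Finite ∧ ∀ x ∈ Y, gspan G T x = ⊤ := by
  apply wellFounded_lt.induction Y; clear Y
  intro Y H
  rcases eq_or_ne Y ⊥ with rfl | h₀
  · exact ⟨∅, Set.finite_empty, fun x hx => absurd hx (Set.notMem_empty x)⟩
  · by_cases h₁ : IsPreirreducible (Y : Set X)
    · replace h₁ : IsIrreducible (Y : Set X) := ⟨Closeds.coe_nonempty.2 h₀, h₁⟩
      obtain ⟨ξ, hξ⟩ := QuasiSober.sober h₁ Y.2
      obtain ⟨W', T, hξW, hT, hgen⟩ := exists_local_generators ι ξ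
      have hξY : ξ ∈ Y := hξ.mem
      let Z : Closeds X := ⟨(W' : Set X)ᶜ, W'.2.isClosed_compl⟩
      have hlt : Y ⊓ Z < Y := by
        refine lt_of_le_of_ne inf_le_left (fun h => ?_)
        have : ξ ∈ Y ⊓ Z := by rw [h]; exact hξY
        exact this.2 hξW
      obtain ⟨T', hT', hgen'⟩ := H (Y ⊓ Z) hlt
      refine ⟨T' ∪ T, hT'.union hT, fun x hx => ?_⟩
      by_cases hxW : x ∈ W'
      · refine gspan_eq_top_of_subset Set.subset_union_right x (hgen x hxW ?_)
        rw [specializes_iff_mem_closure, hξ.def]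
        exact hx
      · exact gspan_eq_top_of_subset Set.subset_union_left x (hgen' x ⟨hx, hxW⟩)
    · simp only [isPreirreducible_iff_isClosed_union_isClosed, not_forall, not_or] at h₁
      obtain ⟨z₁, z₂, hz₁, hz₂, h, hz₁', hz₂'⟩ := h₁
      lift z₁ to Closeds X using hz₁
      lift z₂ to Closeds X using hz₂
      obtain ⟨T₁, hT₁, h₁⟩ := H (Y ⊓ z₁) (inf_lt_left.2 hz₁')
      obtain ⟨T₂, hT₂, h₂⟩ := H (Y ⊓ z₂) (inf_lt_left.2 hz₂')
      refine ⟨T₁ ∪ T₂, hT₁.union hT₂, fun x hx => ?_⟩
      rcases h hx with hx1 | hx2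
      · exact gspan_eq_top_of_subset Set.subset_union_left x (h₁ x ⟨hx, hx1⟩)
      · exact gspan_eq_top_of_subset Set.subset_union_right x (h₂ x ⟨hx, hx2⟩)

/-- finitely many local sections of `G ⊆ O_X` generate all stalks -/
theorem exists_generators [IsNoetherian X] [Mono ι] :
    ∃ T : Set (LSec G), T.Finite ∧ ∀ x : X, gspan G T x = ⊤ := by
  obtain ⟨T, hT, h⟩ := exists_generators_on_closed ι (⊤ : Closeds X)
  exact ⟨T, hT, fun x => h x trivial⟩

end Groth.Agent.H30.IdealGen
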