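import Groth.Agent.H71.QCoh.TensorInvertible
import Groth.Agent.H5.Stalk.Exact
import Groth.Agent.H30.IdealGen.Alg

/-!
# Sub-`O_X`-modules of `O_X` on a Noetherian scheme: finitely many local sections generate all stalks
-/

set_option autoImplicit false
universe u
open CategoryTheory CategoryTheory.Limits AlgebraicGeometry TopologicalSpace Opposite

namespace Groth.Agent.H30.IdealGen

open Groth.Agent.H5.Stalk Groth.Agent.H5.Stalk.Tensor Groth.Agent.H71.QCoh

variable {X : Scheme.{u}} (G : X.Modules)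

/-- local sections of `G` -/
abbrev LSec : Type u := Σ U : X.Opens, Γ(G, U)

/-- the germs at `x` of the members of a family of local sections -/
def genSet (T : Set (LSec G)) (x : X) : Set (G.presheaf.stalk x) :=
  {g | ∃ p ∈ T, ∃ h : x ∈ p.1, G.presheaf.germ p.1 x h p.2 = g}

/-- the submodule of the stalk generated by a family of local sections -/
noncomputable def gspan (T : Set (LSec G)) (x : X) :
    Submodule (X.presheaf.stalk x) (G.presheaf.stalk x) :=
  Submodule.span _ (genSet G T x)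

variable {G}

lemma genSet_mono {T T' : Set (LSec G)} (h : T ⊆ T') (x : X) : genSet G T x ⊆ genSet G T' x := by
  rintro g ⟨p, hp, hx, rfl⟩
  exact ⟨p, h hp, hx, rfl⟩

lemma gspan_mono {T T' : Set (LSec G)} (h : T ⊆ T') (x : X) : gspan G T x ≤ gspan G T' x :=
  Submodule.span_mono (genSet_mono h x)

lemma gspan_eq_top_of_subset {T T' : Set (LSec G)} (h : T ⊆ T') (x : X) (hT : gspan G T x = ⊤) :
    gspan G T' x = ⊤ :=
  top_unique (hT ▸ gspan_mono h x)

variable (ι : G ⟶ Coh.structureModule X)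

/-- the stalk of `ι` with values in the local ring -/
noncomputable def ιst (x : X) : (G.presheaf.stalk x) →ₗ[X.presheaf.stalk x] X.presheaf.stalk x :=
  (unitStalkEquiv x).toLinearMap ∘ₗ ((stalkFunctor x).map ι).hom

/-- `ι` on sections, with values in the ring of functions -/
noncomputable def ιsec (U : X.Opens) (g : Γ(G, U)) : Γ(X, U) := ι.app U g

lemma ιst_germ (x : X) (U : X.Opens) (hx : x ∈ U) (g : Γ(G, U)) :
    ιst ι x (G.presheaf.germ U x hx g) = X.presheaf.germ U x hx (ιsec ι U g) := by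
  change unitStalkEquiv x (((stalkFunctor x).map ι).hom (gm x G U hx g)) = _
  rw [stalkFunctor_map_gm]
  exact unitStalkEquiv_gm x U hx (ιsec ι U g)

lemma ιst_injective [Mono ι] (x : X) : Function.Injective (ιst ι x) := by
  intro a b h
  exact stalkFunctor_map_injective_of_mono x ι ((unitStalkEquiv x).injective h)

lemma ιsec_res {U V : X.Opens} (i : V ⟶ U) (g : Γ(G, U)) :
    ιsec ι V (G.presheaf.map i.op g) = X.presheaf.map i.op (ιsec ι U g) := by
  have := ConcreteCategory.congr_hom (ι.mapPresheaf.naturality i.op) g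
  exact this

omit ι in
/-- finitely many germs have representatives on a common affine neighbourhood -/
lemma exists_affine_sections (ξ : X) (S : Finset (G.presheaf.stalk ξ)) :
    ∃ (W : X.Opens) (_ : IsAffineOpen W) (hξ : ξ ∈ W),
      ∀ g ∈ S, ∃ m : Γ(G, W), G.presheaf.germ W ξ hξ m = g := by
  classical
  induction S using Finset.induction_on with
  | empty =>
    obtain ⟨W, hW, hξ, -⟩ := exists_isAffineOpen_mem_and_subset (x := ξ) (U := ⊤) trivial
    exact ⟨W, hW, hξ, fun g hg => absurd hg (Finset.notMem_empty g)⟩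
  | insert g S _ ih =>
    obtain ⟨W, hW, hξ, h⟩ := ih
    obtain ⟨U, hU, m, rfl⟩ := G.presheaf.exists_germ_eq g
    obtain ⟨W', hW', hξ', hle⟩ :=
      exists_isAffineOpen_mem_and_subset (x := ξ) (U := W ⊓ U) ⟨hξ, hU⟩
    refine ⟨W', hW', hξ', fun g' hg' => ?_⟩
    rcases Finset.mem_insert.1 hg' with rfl | hg'
    · exact ⟨G.presheaf.map (homOfLE (fun y hy => (hle hy).2)).op m,
        G.presheaf.germ_res_apply _ _ _ _⟩
    · obtain ⟨m', rfl⟩ := h g' hg'
      exact ⟨G.presheaf.map (homOfLE (fun y hy => (hle hy).1)).op m',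
        G.presheaf.germ_res_apply _ _ _ _⟩

/-- **Key local lemma**: near a point `ξ` of a locally Noetherian scheme, finitely many sections
of `G ⊆ O_X` generate the stalks of `G` at all specializations of `ξ` in a neighbourhood. -/
theorem exists_local_generators [IsLocallyNoetherian X] [Mono ι] (ξ : X) :
    ∃ (W' : X.Opens) (T : Set (LSec G)), ξ ∈ W' ∧ T.Finite ∧
      ∀ x ∈ W', ξ ⤳ x → gspan G T x = ⊤ := by
  classical
  -- generators of the stalk at ξ
  have hN : IsNoetherian (X.presheaf.stalk ξ) (G.presheaf.stalk ξ) :=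
    isNoetherian_of_injective (ιst ι ξ) (ιst_injective ι ξ)
  obtain ⟨S, hS⟩ := hN.noetherian ⊤
  obtain ⟨W, hW, hξ, hm⟩ := exists_affine_sections ξ S
  choose! t ht using hm
  have : IsNoetherianRing Γ(X, W) := IsLocallyNoetherian.component_noetherian ⟨W, hW⟩
  let I : Ideal Γ(X, W) := Ideal.span ((fun g => ιsec ι W (t g)) '' (S : Set (G.presheaf.stalk ξ)))
  obtain ⟨s, hξs, hs⟩ := exists_mul_mem hW ξ hξ I
  let T : Set (LSec G) := (fun g => (⟨W, t g⟩ : LSec G)) '' (S : Set (G.presheaf.stalk ξ))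
  refine ⟨X.basicOpen s, T, hξs, S.finite_toSet.image _, fun x hxs hsp => ?_⟩
  have hxW : x ∈ W := X.basicOpen_le s hxs
  -- the image of the stalk at ξ is `I·O_ξ`
  have hξI : ∀ g : G.presheaf.stalk ξ,
      ιst ι ξ g ∈ Ideal.map (X.presheaf.germ W ξ hξ).hom I := by
    intro g
    have hg : g ∈ Submodule.span (X.presheaf.stalk ξ) (S : Set (G.presheaf.stalk ξ)) := by
      rw [hS]; trivial
    have h1 := Submodule.mem_map_of_mem (f := ιst ι ξ) hg
    rw [Submodule.map_span] at h1
    refine (Submodule.span_le (p := Ideal.map (X.presheaf.germ W ξ hξ).hom I)).2 ?_ h1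
    rintro _ ⟨g', hg', rfl⟩
    rw [← ht g' hg', ιst_germ]
    exact Ideal.mem_map_of_mem _ (Ideal.subset_span ⟨g', hg', rfl⟩)
  rw [eq_top_iff]
  intro g' _
  obtain ⟨U, hxU, m', rfl⟩ := G.presheaf.exists_germ_eq g'
  obtain ⟨f, hfle, hxf⟩ := hW.exists_basicOpen_le (V := W ⊓ U) ⟨x, ⟨hxW, hxU⟩⟩ hxW
  have hxf' : x ∈ X.basicOpen f := hxf
  have hξf : ξ ∈ X.basicOpen f := hsp.mem_open (X.basicOpen f).2 hxf'
  let m'' : Γ(G, X.basicOpen f) := G.presheaf.map (homOfLE (hfle.trans inf_le_right)).op m'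
  have e0 : G.presheaf.germ U x hxU m' = G.presheaf.germ (X.basicOpen f) x hxf' m'' :=
    (G.presheaf.germ_res_apply _ _ _ _).symm
  rw [e0]
  have key := germ_mem_of_mul_mem hW I s ξ hξ hs x hxs f hxf' hξf (ιsec ι _ m'') (by
    rw [← ιst_germ]; exact hξI _)
  rw [← ιst_germ, Ideal.map_span] at key
  -- pull back along the injective `ιst ι x`
  have h2 : Ideal.span ((X.presheaf.germ W x (X.basicOpen_le f hxf')).hom ''
      ((fun g => ιsec ι W (t g)) '' (S : Set (G.presheaf.stalk ξ)))) ≤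
      Submodule.map (ιst ι x) (gspan G T x) := by
    refine Submodule.span_le.2 ?_
    rintro _ ⟨_, ⟨g, hg, rfl⟩, rfl⟩
    refine ⟨G.presheaf.germ W x hxW (t g), Submodule.subset_span ⟨⟨W, t g⟩, ⟨g, hg, rfl⟩, hxW, rfl⟩, ?_⟩
    exact ιst_germ ι x W hxW (t g)
  obtain ⟨y, hy, hyg⟩ := h2 key
  rw [← ιst_injective ι x hyg]
  exact hy

end Groth.Agent.H30.IdealGen
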