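import Groth.Agent.H30.IdealGen.Chain

/-!
# Sub-`O_X`-modules of `O_X` are Noetherian objects (X a Noetherian scheme)
-/

set_option autoImplicit false
universe u
open CategoryTheory CategoryTheory.Limits AlgebraicGeometry TopologicalSpace Opposite

namespace Groth.Agent.H30.IdealGen

open Groth.Agent.H5.Stalk Groth.Agent.H5.Stalk.Tensor Groth.Agent.H71.QCoh

variable {X : Scheme.{u}}

lemma ιst_comp {G G' : X.Modules} (f : G ⟶ G') (ι' : G' ⟶ Coh.structureModule X) (x : X)
    (g : G.presheaf.stalk x) :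
    ιst (f ≫ ι') x g = ιst ι' x (((stalkFunctor x).map f).hom g) := by
  unfold ιst
  rw [(stalkFunctor x).map_comp]
  rfl

/-- an object of `X.Modules` embedded in `O_X` is a Noetherian object when `X` is a Noetherian
scheme: every ascending chain of subobjects stabilizes -/
theorem subobject_chain_stabilizes [IsNoetherian X] {F : X.Modules}
    (κ : F ⟶ Coh.structureModule X) [Mono κ] (c : ℕ →o Subobject F) :
    ∃ n : ℕ, ∀ m : ℕ, n ≤ m → c n = c m := by
  let G : ℕ → X.Modules := fun n => (c n : X.Modules)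
  let ι : ∀ n, G n ⟶ Coh.structureModule X := fun n => (c n).arrow ≫ κ
  have hι : ∀ n, Mono (ι n) := fun n => mono_comp _ _
  have hfac : ∀ n m (h : n ≤ m), Subobject.ofLE (c n) (c m) (c.monotone h) ≫ ι m = ι n := by
    intro n m h
    change Subobject.ofLE (c n) (c m) (c.monotone h) ≫ (c m).arrow ≫ κ = (c n).arrow ≫ κ
    rw [Subobject.ofLE_arrow_assoc]
  have hmono : ∀ n m, n ≤ m → ∀ x, stI (ι n) x ≤ stI (ι m) x := by
    rintro n m h x _ ⟨g, rfl⟩
    refine ⟨((stalkFunctor x).map (Subobject.ofLE _ _ (c.monotone h))).hom g, ?_⟩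
    have h2 := ιst_comp (Subobject.ofLE _ _ (c.monotone h)) (ι m) x g
    have h3 : ιst (Subobject.ofLE _ _ (c.monotone h) ≫ ι m) x g = ιst (ι n) x g := by
      rw [hfac n m h]
    exact h2.symm.trans h3
  obtain ⟨N, hN⟩ := exists_stable_on_closed G ι hmono ⊤
  refine ⟨N, fun m hm => ?_⟩
  let f : G N ⟶ G m := Subobject.ofLE (c N) (c m) (c.monotone hm)
  have hepi : Epi f := by
    refine Groth.Agent.H5.PullbackTensor.epi_of_epi_stalkFunctor_map f (fun x => ?_)
    rw [ModuleCat.epi_iff_surjective]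
    intro g
    have h1 : ιst (ι m) x g ∈ stI (ι N) x := hN m hm x trivial ⟨g, rfl⟩
    obtain ⟨g0, hg0⟩ := h1
    refine ⟨g0, ιst_injective (ι m) x ?_⟩
    have h2 := ιst_comp f (ι m) x g0
    have h3 : ιst (f ≫ ι m) x g0 = ιst (ι N) x g0 := by rw [hfac N m hm]
    exact h2.symm.trans (h3.trans hg0)
  have hiso : IsIso f := isIso_of_mono_of_epi f
  refine le_antisymm (c.monotone hm) (Subobject.le_of_comm (inv f) ?_)
  rw [IsIso.inv_comp_eq]
  exact (Subobject.ofLE_arrow _).symm

end Groth.Agent.H30.IdealGen
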