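import Groth.Agent.H30.IdealGen.Detects
import Groth.Agent.H33.SheafMod.Grothendieck
import Mathlib.Algebra.Homology.ShortComplex.ModuleCat

/-!
# Direct sums of injective `O_X`-modules on a locally Noetherian scheme are injective
-/

set_option autoImplicit false
universe u
open CategoryTheory CategoryTheory.Limits AlgebraicGeometry TopologicalSpace Opposite

namespace Groth.Agent.H30.IdealGen

section Abstract

variable {C : Type*} [Category C] [Preadditive C] {K : Type*} [DecidableEq K] (I : K → C)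
  [HasCoproduct I]

/-- the projection of `∐ I` onto the summands outside `S` -/
noncomputable def eS (S : Finset K) : ∐ I ⟶ ∐ I :=
  Limits.Sigma.desc (fun k => if k ∈ S then 0 else Limits.Sigma.ι I k)

lemma ι_eS (S : Finset K) (k : K) :
    Limits.Sigma.ι I k ≫ eS I S = if k ∈ S then 0 else Limits.Sigma.ι I k := by
  unfold eS
  rw [Limits.Sigma.ι_desc]

lemma ι_eS_of_mem {S : Finset K} {k : K} (h : k ∈ S) : Limits.Sigma.ι I k ≫ eS I S = 0 := by
  rw [ι_eS, if_pos h]

lemma ι_eS_of_notMem {S : Finset K} {k : K} (h : k ∉ S) :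
    Limits.Sigma.ι I k ≫ eS I S = Limits.Sigma.ι I k := by
  rw [ι_eS, if_neg h]

lemma eS_comp (S S' : Finset K) : eS I S ≫ eS I S' = eS I (S ∪ S') := by
  refine Limits.Sigma.hom_ext _ _ (fun k => ?_)
  rw [← Category.assoc]
  by_cases h : k ∈ S
  · rw [ι_eS_of_mem I h, zero_comp, ι_eS_of_mem I (Finset.mem_union_left _ h)]
  · rw [ι_eS_of_notMem I h]
    by_cases h' : k ∈ S'
    · rw [ι_eS_of_mem I h', ι_eS_of_mem I (Finset.mem_union_right _ h')]
    · rw [ι_eS_of_notMem I h', ι_eS_of_notMem I (by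
        rw [Finset.mem_union]; tauto)]

lemma eS_comp_of_subset {S S' : Finset K} (h : S ⊆ S') : eS I S ≫ eS I S' = eS I S' := by
  rw [eS_comp, Finset.union_eq_right.2 h]

/-- decomposition of the identity of `∐ I` along a finite set of indices -/
lemma id_eq_eS_add (S : Finset K) :
    𝟙 (∐ I) = eS I S + ∑ k ∈ S, Limits.Sigma.π I k ≫ Limits.Sigma.ι I k := by
  refine Limits.Sigma.hom_ext _ _ (fun k' => ?_)
  rw [Category.comp_id, Preadditive.comp_add, Preadditive.comp_sum]
  have h1 : ∀ k ∈ S, Limits.Sigma.ι I k' ≫ Limits.Sigma.π I k ≫ Limits.Sigma.ι I k =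
      if k = k' then Limits.Sigma.ι I k' else 0 := by
    intro k _
    by_cases h : k = k'
    · subst h
      rw [if_pos rfl, Limits.Sigma.ι_π_eq_id_assoc]
    · rw [if_neg h, Limits.Sigma.ι_π_of_ne_assoc I (Ne.symm h), zero_comp]
  rw [Finset.sum_congr rfl h1, Finset.sum_ite_eq' S k' (fun _ => Limits.Sigma.ι I k')]
  by_cases h : k' ∈ S
  · rw [ι_eS_of_mem I h, if_pos h, zero_add]
  · rw [ι_eS_of_notMem I h, if_neg h, add_zero]

end Abstract

section Stalk

open Groth.Agent.H5.Stalk

variable {X : Scheme.{u}} {K : Type u} [DecidableEq K] (I : K → X.Modules)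

omit [DecidableEq K] in
/-- the stalk of a coproduct is spanned by the images of the stalks of the summands -/
lemma iSup_range_stalk_ι (x : X) :
    (⨆ k, LinearMap.range ((stalkFunctor x).map (Limits.Sigma.ι I k)).hom) = ⊤ := by
  set T := ⨆ k, LinearMap.range ((stalkFunctor x).map (Limits.Sigma.ι I k)).hom with hT
  let q : (stalkFunctor x).obj (∐ I) ⟶ ModuleCat.of _ (_ ⧸ T) := ModuleCat.ofHom T.mkQ
  have hq : q = 0 := by
    refine (isColimitOfPreserves (stalkFunctor x) (coproductIsCoproduct I)).hom_ext ?_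
    rintro ⟨k⟩
    rw [comp_zero]
    ext y
    change T.mkQ (((stalkFunctor x).map (Limits.Sigma.ι I k)).hom y) = 0
    rw [Submodule.mkQ_apply, Submodule.Quotient.mk_eq_zero]
    exact (le_iSup (fun k => LinearMap.range ((stalkFunctor x).map (Limits.Sigma.ι I k)).hom) k)
      ⟨y, rfl⟩
  rw [eq_top_iff]
  intro y _
  have h1 : T.mkQ y = 0 := by
    have := congrArg (fun f => f.hom y) hq
    exact this
  rwa [Submodule.mkQ_apply, Submodule.Quotient.mk_eq_zero] at h1

/-- every element of the stalk of a coproduct is killed by the projection away from a finite set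
of summands -/
lemma exists_finset_stalk_eS_eq_zero (x : X) (y : ((stalkFunctor x).obj (∐ I) : Type u)) :
    ∃ S : Finset K, ((stalkFunctor x).map (eS I S)).hom y = 0 := by
  have hy : y ∈ ⨆ k, LinearMap.range ((stalkFunctor x).map (Limits.Sigma.ι I k)).hom := by
    rw [iSup_range_stalk_ι]; trivial
  obtain ⟨S, hS⟩ := Submodule.mem_iSup_iff_exists_finset.1 hy
  refine ⟨S, ?_⟩
  have hle : (⨆ k ∈ S, LinearMap.range ((stalkFunctor x).map (Limits.Sigma.ι I k)).hom) ≤
      LinearMap.ker ((stalkFunctor x).map (eS I S)).hom := by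
    refine iSup₂_le (fun k hk => ?_)
    rintro _ ⟨z, rfl⟩
    rw [LinearMap.mem_ker]
    have h1 : (stalkFunctor x).map (Limits.Sigma.ι I k) ≫ (stalkFunctor x).map (eS I S) = 0 := by
      rw [← Functor.map_comp, ι_eS_of_mem I hk, Functor.map_zero]
    exact congrArg (fun f => f.hom z) h1
  exact hle hS

/-- a morphism of modules vanishing on all stalks is zero -/
lemma eq_zero_of_stalk {A B : X.Modules} (θ : A ⟶ B)
    (h : ∀ (x : X) (a : A.presheaf.stalk x), ((stalkFunctor x).map θ).hom a = 0) : θ = 0 := by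
  ext W s
  refine TopCat.Presheaf.section_ext ⟨B.presheaf, B.isSheaf⟩ W _ _ (fun x hx => ?_)
  have h1 := stalkFunctor_map_germ x θ W hx s
  rw [h x] at h1
  refine h1.symm.trans ?_
  exact (map_zero _).symm

/-- a morphism from a Noetherian object to a coproduct factors through a finite sub-coproduct:
it is killed by the projection away from finitely many summands -/
theorem exists_finset_comp_eS_eq_zero {A : X.Modules}
    (hA : ∀ c : ℕ →o Subobject A, ∃ n : ℕ, ∀ m : ℕ, n ≤ m → c n = c m) (φ : A ⟶ ∐ I) :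
    ∃ S : Finset K, φ ≫ eS I S = 0 := by
  have hwf : WellFoundedGT (Subobject A) := wellFoundedGT_iff_monotone_chain_condition.2 hA
  let Aof : Finset K → Subobject A := fun S => Subobject.mk (kernel.ι (φ ≫ eS I S))
  have hmono : ∀ S S' : Finset K, S ⊆ S' → Aof S ≤ Aof S' := by
    intro S S' h
    refine Subobject.mk_le_mk_of_comm (kernel.lift _ (kernel.ι (φ ≫ eS I S)) ?_)
      (kernel.lift_ι _ _ _)
    rw [← eS_comp_of_subset I h, ← Category.assoc φ, ← Category.assoc, kernel.condition, zero_comp]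
  obtain ⟨_, ⟨S₀, rfl⟩, hmax⟩ := hwf.wf.has_min (Set.range Aof) ⟨_, ⟨∅, rfl⟩⟩
  refine ⟨S₀, ?_⟩
  by_contra hne
  have hex : ∃ (x : X) (a : A.presheaf.stalk x),
      ((stalkFunctor x).map (φ ≫ eS I S₀)).hom a ≠ 0 := by
    by_contra hcon
    push Not at hcon
    exact hne (eq_zero_of_stalk _ hcon)
  obtain ⟨x, a, ha⟩ := hex
  obtain ⟨S, hS⟩ := exists_finset_stalk_eS_eq_zero I x (((stalkFunctor x).map (φ ≫ eS I S₀)).hom a)
  -- enlarge
  have heq : Aof (S₀ ∪ S) = Aof S₀ := by
    have hle := hmono S₀ (S₀ ∪ S) Finset.subset_union_left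
    by_contra hneq
    exact hmax _ ⟨S₀ ∪ S, rfl⟩ (lt_of_le_of_ne hle (Ne.symm hneq))
  set θ' := φ ≫ eS I (S₀ ∪ S) with hθ'
  have hθ'eq : θ' = (φ ≫ eS I S₀) ≫ eS I S := by
    rw [hθ', Category.assoc, eS_comp]
  have hker : kernel.ι θ' ≫ (φ ≫ eS I S₀) = 0 := by
    have h1 := Subobject.ofMkLEMk_comp (f := kernel.ι θ') (g := kernel.ι (φ ≫ eS I S₀)) heq.le
    rw [← h1, Category.assoc, kernel.condition, comp_zero]
  -- exactness on stalks
  let SC : ShortComplex X.Modules := ShortComplex.mk (kernel.ι θ') θ' (kernel.condition θ')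
  have hSC : SC.Exact := ShortComplex.exact_of_f_is_kernel _ (kernelIsKernel θ')
  have hSC' : (SC.map (stalkFunctor x)).Exact := hSC.map (stalkFunctor x)
  rw [ShortComplex.moduleCat_exact_iff] at hSC'
  have ha' : ((stalkFunctor x).map θ').hom a = 0 := by
    rw [hθ'eq, Functor.map_comp]
    exact hS
  obtain ⟨b, hb⟩ := hSC' a ha'
  apply ha
  have hb' : a = ((stalkFunctor x).map (kernel.ι θ')).hom b := hb.symm
  rw [hb']
  have h2 : (stalkFunctor x).map (kernel.ι θ') ≫ (stalkFunctor x).map (φ ≫ eS I S₀) = 0 := by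
    rw [← Functor.map_comp, hker, Functor.map_zero]
  exact congrArg (fun f => f.hom b) h2

end Stalk

section Main

variable {X : Scheme.{u}}

/-- subobjects of the generators `j_! O_V` are Noetherian objects -/
lemma chain_condition_of_mono_genFam [IsLocallyNoetherian X] (V : X.affineOpens) {S : X.Modules}
    (j : S ⟶ genFam X V) [Mono j] (c : ℕ →o Subobject S) :
    ∃ n : ℕ, ∀ m : ℕ, n ≤ m → c n = c m := by
  haveI : IsAffine (V.1 : Scheme.{u}) := V.2
  let c' : ℕ →o Subobject (CxOX.extZeroUnit V.1.ι) :=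
    ⟨fun n => (Subobject.map j).obj (c n), fun n m h => (Subobject.map j).monotone (c.monotone h)⟩
  obtain ⟨n, hn⟩ := extZeroUnit_chain_stabilizes V.1.ι c'
  exact ⟨n, fun m hm => Subobject.map_obj_injective j (hn m hm)⟩

/-- **Direct sums of injective `O_X`-modules are injective** on a locally Noetherian scheme. -/
theorem injective_sigma [IsLocallyNoetherian X] {K : Type u} (I : K → X.Modules)
    (hI : ∀ k, Injective (I k)) : Injective (∐ I) := by
  classical
  haveI : IsGrothendieckAbelian.{u} X.Modules :=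
    Groth.Agent.H33.SheafMod.isGrothendieckAbelian (Opens.grothendieckTopology X) X.ringCatSheaf
  refine Groth.Agent.H33.Baer.injective_of_extension.{u} ⟨⟨⊥, isAffineOpen_bot X⟩⟩ (genFam X)
    (detects_genFam X) (∐ I) ?_
  intro V S j _ φ
  obtain ⟨T, hT⟩ := exists_finset_comp_eS_eq_zero I (chain_condition_of_mono_genFam V j) φ
  have hfac : ∀ k, ∃ ψ : genFam X V ⟶ I k, j ≫ ψ = φ ≫ Limits.Sigma.π I k :=
    fun k => Injective.factors (φ ≫ Limits.Sigma.π I k) j
  choose ψ hψ using hfac
  refine ⟨∑ k ∈ T, ψ k ≫ Limits.Sigma.ι I k, ?_⟩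
  rw [Preadditive.comp_sum]
  have h1 : ∀ k ∈ T, j ≫ ψ k ≫ Limits.Sigma.ι I k =
      φ ≫ Limits.Sigma.π I k ≫ Limits.Sigma.ι I k := by
    intro k _
    rw [← Category.assoc, hψ k, Category.assoc]
  rw [Finset.sum_congr rfl h1, ← Preadditive.comp_sum]
  have h2 := id_eq_eS_add I T
  have h3 : φ = φ ≫ (eS I T + ∑ k ∈ T, Limits.Sigma.π I k ≫ Limits.Sigma.ι I k) := by
    rw [← h2, Category.comp_id]
  rw [Preadditive.comp_add, hT, zero_add] at h3
  exact h3.symm

end Main

end Groth.Agent.H30.IdealGen
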